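import Groth.Agent.H47.FreeSec.Basic
import Groth.Agent.Lib.BCNat51.Basic
import Groth.Agent.Lib.CohDelta.BC.Flat
import Groth.Agent.Lib.Modules.SupportOps
import Mathlib.RingTheory.Flat.FaithfullyFlat.Basic

/-!
# Base change of restriction maps to a divisor
-/

set_option autoImplicit false
set_option linter.style.haveILetI false
set_option linter.unusedSectionVars false
set_option backward.isDefEq.respectTransparency false

universe u

open CategoryTheory CategoryTheory.Limits AlgebraicGeometry TopologicalSpace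

namespace Groth.Agent.H47.FreeSec.BC

open Groth.Agent Groth.Agent.Lib Groth.Agent.H47.FreeSec

noncomputable section

variable {P P' T T' : Scheme.{u}} {π : P ⟶ T} {π' : P' ⟶ T'} {u : T' ⟶ T} {v : P' ⟶ P}

/-- Pasting of base change maps along a morphism to the source. -/
theorem isIso_bc_push {Z Z' : Scheme.{u}} (h : IsPullback v π' π u) {j : Z ⟶ P} {j' : Z' ⟶ P'}
    {w : Z' ⟶ Z} (hj : IsPullback w j' j v) [IsAffineHom j] [IsAffineHom (j ≫ π)] (H : Z.Modules)
    [H.IsQuasicoherent] : IsIso (ZarCoh.AffineBC.bc h ((Coh.push j).obj H)) := by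
  haveI := ZarCoh.AffineBC.isIso_bc hj H
  haveI := ZarCoh.AffineBC.isIso_bc (hj.paste_vert h) H
  have key : ZarCoh.AffineBC.bc h ((Coh.push j).obj H) ≫
      (Coh.push π').map (ZarCoh.AffineBC.bc hj H) ≫
        (Scheme.Modules.pushforwardComp j' π').hom.app _ =
      (Scheme.Modules.pullback u).map ((Scheme.Modules.pushforwardComp j π).hom.app H) ≫
        ZarCoh.AffineBC.bc (hj.paste_vert h) H := by
    apply ((Scheme.Modules.pullbackPushforwardAdjunction u).homEquiv _ _).injective
    rw [Adjunction.homEquiv_naturality_right, Adjunction.homEquiv_naturality_left]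
    refine Eq.trans (congrArg (· ≫ _) (show ((Scheme.Modules.pullbackPushforwardAdjunction u).homEquiv _ _)
        (ZarCoh.AffineBC.bc h ((Coh.push j).obj H)) = ZarCoh.AffineBC.τ h ((Coh.push j).obj H) from
      ((Scheme.Modules.pullbackPushforwardAdjunction u).homEquiv _ _).apply_symm_apply _)) ?_
    refine Eq.trans ?_ (congrArg ((Scheme.Modules.pushforwardComp j π).hom.app H ≫ ·)
      (show ((Scheme.Modules.pullbackPushforwardAdjunction u).homEquiv _ _)
        (ZarCoh.AffineBC.bc (hj.paste_vert h) H) = ZarCoh.AffineBC.τ (hj.paste_vert h) H from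
      ((Scheme.Modules.pullbackPushforwardAdjunction u).homEquiv _ _).apply_symm_apply _)).symm
    refine Scheme.Modules.hom_ext _ _ fun V => ?_
    ext n
    have hw : (Scheme.Modules.pullbackPushforwardAdjunction v).unit.app ((Coh.push j).obj H) ≫
        (Coh.push v).map (ZarCoh.AffineBC.bc hj H) = ZarCoh.AffineBC.τ hj H := by
      exact ((Scheme.Modules.pullbackPushforwardAdjunction v).homEquiv_unit ..).symm.trans
        (((Scheme.Modules.pullbackPushforwardAdjunction v).homEquiv _ _).apply_symm_apply _)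
    have h1 := congrArg (fun φ => φ.app (π ⁻¹ᵁ V) n) hw
    simp only [Scheme.Modules.Hom.comp_app, CategoryTheory.comp_apply] at h1
    let m : Γ((Coh.push v).obj ((Scheme.Modules.pullback v).obj ((Coh.push j).obj H)), π ⁻¹ᵁ V) :=
      ((Scheme.Modules.pullbackPushforwardAdjunction v).unit.app ((Coh.push j).obj H)).app (π ⁻¹ᵁ V) n
    have e : π' ⁻¹ᵁ (u ⁻¹ᵁ V) ≤ v ⁻¹ᵁ (π ⁻¹ᵁ V) := by
      intro x hx
      show π (v x) ∈ V
      rw [← Scheme.Hom.comp_apply, h.w, Scheme.Hom.comp_apply]
      exact hx
    show (ZarCoh.AffineBC.bc hj H).app (π' ⁻¹ᵁ (u ⁻¹ᵁ V))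
      (((Scheme.Modules.pullback v).obj ((Coh.push j).obj H)).presheaf.map (homOfLE e).op m) = _
    refine (QCoh.Localizing.res_app (ZarCoh.AffineBC.bc hj H) e m).symm.trans ?_
    refine (congrArg (((Coh.push j').obj ((Scheme.Modules.pullback w).obj H)).presheaf.map
      (homOfLE e).op) h1).trans ?_
    show ((Scheme.Modules.pullback w).obj H).presheaf.map _
      (((Scheme.Modules.pullback w).obj H).presheaf.map _
        (((Scheme.Modules.pullbackPushforwardAdjunction w).unit.app H).app (j ⁻¹ᵁ (π ⁻¹ᵁ V)) n)) = _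
    rw [← ConcreteCategory.comp_apply, ← Functor.map_comp]
    rfl
  haveI : IsIso (ZarCoh.AffineBC.bc h ((Coh.push j).obj H) ≫
      (Coh.push π').map (ZarCoh.AffineBC.bc hj H) ≫
        (Scheme.Modules.pushforwardComp j' π').hom.app _) := by rw [key]; infer_instance
  exact IsIso.of_isIso_comp_right (ZarCoh.AffineBC.bc h ((Coh.push j).obj H))
    ((Coh.push π').map (ZarCoh.AffineBC.bc hj H) ≫ (Scheme.Modules.pushforwardComp j' π').hom.app _)

/-- Base change of an epimorphism of direct images. -/
theorem epi_push_pullback (h : IsPullback v π' π u) {A B : P.Modules} (a : A ⟶ B)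
    [IsIso (ZarCoh.AffineBC.bc h B)] (he : Epi ((Coh.push π).map a)) :
    Epi ((Coh.push π').map ((Scheme.Modules.pullback v).map a)) := by
  haveI := he
  haveI : (Scheme.Modules.pullback u).IsLeftAdjoint :=
    (Scheme.Modules.pullbackPushforwardAdjunction u).isLeftAdjoint
  exact epi_of_epi_fac (BCNat51.bc_natural h a).symm

/-- Inverse image along a faithfully flat morphism reflects vanishing. -/
theorem isZero_of_pullback [Flat u] [Surjective u] {M : T.Modules}
    (hz : IsZero ((Scheme.Modules.pullback u).obj M)) : IsZero M := by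
  refine Modules.Stalk.isZero_iff_stalk_subsingleton.2 fun t => ?_
  obtain ⟨x, rfl⟩ := u.surjective t
  letI : Algebra (T.presheaf.stalk (u x)) (T'.presheaf.stalk x) := (u.stalkMap x).hom.toAlgebra
  haveI : IsLocalHom (algebraMap (T.presheaf.stalk (u x)) (T'.presheaf.stalk x)) :=
    inferInstanceAs (IsLocalHom (u.stalkMap x).hom)
  haveI : Module.Flat (T.presheaf.stalk (u x)) (T'.presheaf.stalk x) := Flat.stalkMap u x
  haveI : Module.FaithfullyFlat (T.presheaf.stalk (u x)) (T'.presheaf.stalk x) :=
    Module.FaithfullyFlat.of_flat_of_isLocalHom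
  haveI hx : Subsingleton ↑((Scheme.Modules.pullback u ⋙ Modules.StalkModule.stalkModFunctor T' x).obj M) :=
    Modules.Stalk.isZero_iff_stalk_subsingleton.1 hz x
  haveI : Subsingleton (TensorProduct (T.presheaf.stalk (u x)) (T'.presheaf.stalk x) (M.presheaf.stalk (u x))) :=
    ((DerivedOX.PullbackStalk.pullbackStalkIso u x).app M).toLinearEquiv.toEquiv.subsingleton
  exact Module.FaithfullyFlat.lTensor_reflects_triviality (T.presheaf.stalk (u x)) (T'.presheaf.stalk x)
    (M.presheaf.stalk (u x))

/-- Faithfully flat descent of an epimorphism of direct images. -/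
theorem epi_push_of_pullback (h : IsPullback v π' π u) [Flat u] [Surjective u] [QuasiCompact π]
    [QuasiSeparated π] {A B : P.Modules} (a : A ⟶ B) [A.IsQuasicoherent] [IsIso (ZarCoh.AffineBC.bc h B)]
    (he : Epi ((Coh.push π').map ((Scheme.Modules.pullback v).map a))) :
    Epi ((Coh.push π).map a) := by
  haveI := he
  haveI := DerivedOX.Grothendieck.enoughInjectives_modules P
  haveI := DerivedOX.Grothendieck.enoughInjectives_modules P'
  haveI : IsIso (ZarCoh.AffineBC.bc h A) := CohDelta.BC.Flat.isIso_bc0 π u v π' h A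
  haveI : Epi ((Scheme.Modules.pullback u).map ((Coh.push π).map a) ≫ ZarCoh.AffineBC.bc h B) := by
    rw [BCNat51.bc_natural h a]
    infer_instance
  haveI : Epi ((Scheme.Modules.pullback u).map ((Coh.push π).map a)) := by
    have := epi_comp ((Scheme.Modules.pullback u).map ((Coh.push π).map a) ≫ ZarCoh.AffineBC.bc h B)
      (inv (ZarCoh.AffineBC.bc h B))
    simpa using this
  refine Abelian.epi_of_cokernel_π_eq_zero _ ((isZero_of_pullback (u := u) ?_).eq_of_tgt _ _)
  haveI : (Scheme.Modules.pullback u).IsLeftAdjoint :=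
    (Scheme.Modules.pullbackPushforwardAdjunction u).isLeftAdjoint
  haveI : (Scheme.Modules.pullback u).Additive :=
    (Scheme.Modules.pullbackPushforwardAdjunction u).left_adjoint_additive
  refine IsZero.of_epi_eq_zero ((Scheme.Modules.pullback u).map (cokernel.π ((Coh.push π).map a))) ?_
  rw [← cancel_epi ((Scheme.Modules.pullback u).map ((Coh.push π).map a)), ← Functor.map_comp,
    cokernel.condition, Functor.map_zero, comp_zero]

variable {C : Scheme.{u}} {p : P ⟶ C} {p' : P' ⟶ C}

/-- Inverse image of a twisted map. -/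
theorem arrow_pullback (hv : v ≫ p = p') (F : P.Modules) {M N : C.Modules} (g : M ⟶ N) :
    Nonempty (Arrow.mk ((Scheme.Modules.pullback v).map
        ((Modules.DualAdj.tensorL F).map ((Scheme.Modules.pullback p).map g))) ≅
      Arrow.mk ((Modules.DualAdj.tensorL ((Scheme.Modules.pullback v).obj F)).map
        ((Scheme.Modules.pullback p').map g))) := by
  let e : Scheme.Modules.pullback p ⋙ Scheme.Modules.pullback v ≅ Scheme.Modules.pullback p' :=
    Scheme.Modules.pullbackComp v p ≪≫ Scheme.Modules.pullbackCongr hv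
  let i := fun M : C.Modules =>
    TensorMod.Pullback.pullbackTensorIso v F ((Scheme.Modules.pullback p).obj M) ≪≫
      (Modules.DualAdj.tensorL ((Scheme.Modules.pullback v).obj F)).mapIso (e.app M)
  refine ⟨Arrow.isoMk (i M) (i N) ?_⟩
  have h1 := TensorMod.Pullback.delta_natural v (𝟙 F) ((Scheme.Modules.pullback p).map g)
  rw [CategoryTheory.Functor.map_id] at h1
  have h2 := congrArg (Modules.DualAdj.tensorL ((Scheme.Modules.pullback v).obj F)).map (e.hom.naturality g)
  rw [Functor.map_comp, Functor.map_comp] at h2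
  show (TensorMod.Pullback.delta v F _ ≫ _) ≫ _ = _ ≫ TensorMod.Pullback.delta v F _ ≫ _
  rw [Category.assoc]
  exact ((reassoc_of% h1) _).trans (congrArg (TensorMod.Pullback.delta v F _ ≫ ·) h2) |>.symm

end

end Groth.Agent.H47.FreeSec.BC
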