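import Groth.Agent.Lib.KVec.RelVanish
import Groth.Agent.Lib.ZarCoh.AffineBC
import Groth.Agent.Lib.ZarCoh.Morph
import Groth.Agent.Lib.Modules.ProjFormula
import Groth.Agent.Lib.Modules.DualBasis
import Groth.Agent.Lib.Cyc.C1K.Pull
import Groth.Agent.Lib.FibreDeg.Compose
import Groth.Agent.Lib.FibreDeg.Basic
import Groth.Agent.Lib.CurveBundle.ResD
import Groth.Agent.Lib.CDivInt.Dim1
import Groth.Agent.Lib.RDer.Compare
import Groth.Agent.Lib.CohDelta.BC.Lift
import Groth.Agent.Lib.ClSub.Cartier
import Groth.Agent.Lib.DerivedOX.TensorSheaf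
import Groth.Prelude.Def_Curve

/-!
# Twists of a bundle on `T ×ₖ C` by divisors of the curve `C`
-/

set_option autoImplicit false
set_option linter.style.haveILetI false
set_option backward.isDefEq.respectTransparency false

universe u

open CategoryTheory CategoryTheory.Limits AlgebraicGeometry TopologicalSpace MonoidalCategory

namespace Groth.Agent.H47.FreeSec

open Groth.Agent Groth.Agent.Lib

noncomputable section

variable {k : Type u} [Field k] {C : Scheme.{u}} [C.Over (Spec (CommRingCat.of k))]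
  {T : Scheme.{u}} [T.Over (Spec (CommRingCat.of k))]

local notation "PP" => pullback (T ↘ Spec (CommRingCat.of k)) (C ↘ Spec (CommRingCat.of k))
local notation "π" => pullback.fst (T ↘ Spec (CommRingCat.of k)) (C ↘ Spec (CommRingCat.of k))
local notation "pC" => pullback.snd (T ↘ Spec (CommRingCat.of k)) (C ↘ Spec (CommRingCat.of k))

/-- `G ↦ F ⊗ pr_C^* G`. -/
abbrev tw (F : (PP).Modules) : C.Modules ⥤ (PP).Modules :=
  Scheme.Modules.pullback pC ⋙ Modules.DualAdj.tensorL F

theorem tw_map (F : (PP).Modules) {M N : C.Modules} (a : M ⟶ N) :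
    (tw F).map a = (CohB1.sheafifyMod PP).map
      (CohB1.toPMod F ◁ ((Scheme.Modules.pullback pC).map a).val) :=
  congrArg DCoh.shP.map (MonoidalCategory.id_tensorHom _ _)

theorem shortExact_tw {F : (PP).Modules} (hF : FlatMod.IsFinLocFree F) {S : ShortComplex C.Modules}
    (hS : S.ShortExact) :
    ∃ S' : ShortComplex (PP).Modules, S'.ShortExact ∧ ∃ (_ : S'.X₁ ≅ (tw F).obj S.X₁)
      (e₂ : S'.X₂ ≅ (tw F).obj S.X₂) (e₃ : S'.X₃ ≅ (tw F).obj S.X₃),
      S'.g ≫ e₃.hom = e₂.hom ≫ (tw F).map S.g := by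
  haveI : Flat (T ↘ Spec (CommRingCat.of k)) := FibreDeg.Basic.flat_of_field _
  haveI : Flat pC := MorphismProperty.pullback_snd _ _ inferInstance
  haveI := Modules.DualAdj.tensorL_preservesHomology
    (Modules.DualBasis.hasDBases_of_isFinLocFree hF)
  have h1 := Cyc.C1K.Pull.shortExact_pullback pC hS
  haveI : PreservesFiniteLimits (Modules.DualAdj.tensorL F) :=
    Functor.preservesFiniteLimits_of_preservesHomology _
  haveI : PreservesFiniteColimits (Modules.DualAdj.tensorL F) :=
    Functor.preservesFiniteColimits_of_preservesHomology _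
  exact ⟨_, h1.map_of_exact (Modules.DualAdj.tensorL F), Iso.refl _, Iso.refl _, Iso.refl _,
    (Category.comp_id _).trans (Category.id_comp _).symm⟩

theorem finite_of_noetherian_t1 (Z : Scheme.{u}) [NoetherianSpace Z] (h : ∀ z : Z, IsClosed ({z} : Set Z)) :
    Finite Z := by
  have hfin := TopologicalSpace.NoetherianSpace.finite_irreducibleComponents (α := Z)
  refine Set.finite_univ_iff.1 ?_
  rw [← sUnion_irreducibleComponents]
  refine hfin.sUnion fun W hW => ?_
  obtain ⟨η, hη⟩ := QuasiSober.sober hW.1 (isClosed_of_mem_irreducibleComponents W hW)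
  have : W = {η} := by rw [← hη.def, (h η).closure_eq]
  rw [this]
  exact Set.finite_singleton η

variable [IsIntegral C] [IsLocallyNoetherian C] [NoetherianSpace C]

/-- A coherent module on the curve supported away from the generic point gives no first direct image. -/
theorem vanish (hdim : topologicalKrullDim C ≤ 1) [HasInjectiveResolutions (PP).Modules]
    {F : (PP).Modules} (hF : FlatMod.IsFinLocFree F) {Q : C.Modules} (hQ : Coh.IsCoh Q)
    (hη : genericPoint C ∉ CohB1.support Q) :
    IsZero ((Coh.Rpush π 1).obj ((tw F).obj Q)) := by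
  obtain ⟨J, -, hiso, -, hsupp⟩ := Groth.Agent.S9377.result C Q hQ.1 hQ.2
  let ι := J.subschemeι
  let Z := J.subscheme
  haveI := hiso
  haveI := hQ.1
  haveI : NoetherianSpace Z := ι.isClosedEmbedding.isEmbedding.isInducing.noetherianSpace
  have hcl : ∀ z : Z, IsClosed ({z} : Set Z) := fun z => by
    have hz : ι z ∈ CohB1.support Q := by
      rw [← hsupp, ← Scheme.IdealSheafData.range_subschemeι]
      exact Set.mem_range_self z
    have := (CDivInt.isClosed_singleton_of_ne_genericPoint hdim
      (fun e => hη (e ▸ hz))).preimage ι.continuous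
    rwa [← Set.image_singleton, ι.isClosedEmbedding.injective.preimage_image] at this
  haveI : Finite Z := finite_of_noetherian_t1 Z hcl
  haveI : IsAffine Z := FibreDeg.Compose.isAffine_of_finite_of_isClosed hcl
  let G := (Scheme.Modules.pullback ι).obj Q
  haveI : G.IsQuasicoherent := QCoh.Pullback.isQCoh_pullback ι Q
  let j := pullback.fst pC ι
  let q := pullback.snd pC ι
  have hsq : IsPullback q j ι pC := (IsPullback.of_hasPullback pC ι).flip
  haveI : IsAffineHom j := MorphismProperty.pullback_fst _ _ inferInstance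
  haveI := ZarCoh.AffineBC.isIso_bc hsq G
  haveI : ((Scheme.Modules.pullback q).obj G).IsQuasicoherent := QCoh.Pullback.isQCoh_pullback q G
  haveI : ((Scheme.Modules.pullback j).obj F).IsQuasicoherent :=
    (Perfect.Coherent.isCoh_of_isFinLocFree (TensorMod.LocFree.isFinLocFree_pullback j hF)).1
  let H := (Modules.DualAdj.tensorL ((Scheme.Modules.pullback j).obj F)).obj
    ((Scheme.Modules.pullback q).obj G)
  haveI : Coh.IsQCoh H := TensorMod.TensorQCoh.isQCoh_tensorMod _ _
  let e : (tw F).obj Q ≅ (Coh.push j).obj H :=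
    (Modules.DualAdj.tensorL F).mapIso
      ((Scheme.Modules.pullback pC).mapIso
        (asIso ((Scheme.Modules.pullbackPushforwardAdjunction ι).unit.app Q)) ≪≫
        asIso (ZarCoh.AffineBC.bc hsq G)) ≪≫
      (Modules.ProjFormula.projIso j (Modules.DualBasis.hasDBases_of_isFinLocFree hF)).app _
  have hbig : IsPullback q (j ≫ π) (ι ≫ (C ↘ Spec (CommRingCat.of k)))
      (T ↘ Spec (CommRingCat.of k)) :=
    hsq.paste_vert (IsPullback.of_hasPullback _ _).flip
  haveI : IsAffineHom (j ≫ π) := MorphismProperty.of_isPullback hbig inferInstance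
  haveI : H.IsQuasicoherent := TensorMod.TensorQCoh.isQCoh_tensorMod _ _
  obtain ⟨i⟩ := Groth.Agent.S4456.result j π H 1
  exact (KVec.RelVanish.isZero_Rpush_of_RpushAb π
    ((ZarCoh.Morph.isZero_RpushAb (j ≫ π) H 0).of_iso i)).of_iso ((Coh.Rpush π 1).mapIso e)

theorem epi_push_iff {X Y : Scheme.{u}} (f : X ⟶ Y) [HasInjectiveResolutions X.Modules] {M N : X.Modules}
    (g : M ⟶ N) : Epi ((Coh.push f).map g) ↔ Epi (((Coh.push f).rightDerived 0).map g) := by
  haveI := CohDelta.BC.Lift.pushforward_preservesFiniteLimits f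
  exact ((MorphismProperty.epimorphisms Y.Modules).arrow_mk_iso_iff
    (Arrow.isoMk ((Coh.push f).rightDerivedZeroIsoSelf.app M) ((Coh.push f).rightDerivedZeroIsoSelf.app N)
      ((Coh.push f).rightDerivedZeroIsoSelf.hom.naturality g).symm)).symm

omit [IsIntegral C] [IsLocallyNoetherian C] [NoetherianSpace C] in
/-- Vanishing of the first direct image of the twist of a subobject. -/
theorem isZero_iff [HasInjectiveResolutions (PP).Modules] {F : (PP).Modules}
    (hF : FlatMod.IsFinLocFree F) {S : ShortComplex C.Modules} (hS : S.ShortExact)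
    (h : IsZero ((Coh.Rpush π 1).obj ((tw F).obj S.X₃))) :
    IsZero ((Coh.Rpush π 1).obj ((tw F).obj S.X₁)) ↔
      IsZero ((Coh.Rpush π 1).obj ((tw F).obj S.X₂)) ∧ Epi ((Coh.push π).map ((tw F).map S.g)) := by
  obtain ⟨S', hS', e₁, e₂, e₃, he⟩ := shortExact_tw hF hS
  obtain ⟨Δ⟩ := RDer.Connecting.nonempty_derivedLES (Coh.push π)
  have hg : Epi ((Coh.push π).map ((tw F).map S.g)) ↔ Epi (((Coh.push π).rightDerived 0).map S'.g) :=
    (((MorphismProperty.epimorphisms T.Modules).arrow_mk_iso_iff
      (Arrow.isoMk ((Coh.push π).mapIso e₂) ((Coh.push π).mapIso e₃)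
        (by simp only [Arrow.mk_hom, Functor.mapIso_hom, ← Functor.map_comp, he]))).symm).trans
          (epi_push_iff π S'.g)
  rw [hg]
  constructor
  · intro h1
    have h1' : IsZero (((Coh.push π).rightDerived 1).obj S'.X₁) := h1.of_iso ((Coh.Rpush π 1).mapIso e₁)
    have h3' : IsZero (((Coh.push π).rightDerived 1).obj S'.X₃) := h.of_iso ((Coh.Rpush π 1).mapIso e₃)
    exact ⟨((Δ.exact₂ S' hS' 1).isZero_of_both_zeros (h1'.eq_zero_of_src _) (h3'.eq_zero_of_tgt _)).of_iso
      ((Coh.Rpush π 1).mapIso e₂).symm, (Δ.exact₃ S' hS' 0 1 rfl).epi_f (h1'.eq_zero_of_tgt _)⟩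
  · rintro ⟨h2, hepi⟩
    have h2' : IsZero (((Coh.push π).rightDerived 1).obj S'.X₂) := h2.of_iso ((Coh.Rpush π 1).mapIso e₂)
    have hδ : Δ.δ S' hS' 0 1 rfl = 0 := by
      rw [← cancel_epi (((Coh.push π).rightDerived 0).map S'.g), comp_zero]
      exact Δ.comp_δ S' hS' 0 1 rfl
    exact ((Δ.exact₁ S' hS' 0 1 rfl).isZero_of_both_zeros hδ (h2'.eq_zero_of_tgt _)).of_iso
      ((Coh.Rpush π 1).mapIso e₁).symm

/-- The twist of the structure module. -/
def twUnit (F : (PP).Modules) : (tw F).obj (Coh.structureModule C) ≅ F :=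
  (Modules.DualAdj.tensorL F).mapIso (PicLoc.pullbackStructureIso pC) ≪≫ TensorMod.Basic.rightUnit F

omit [NoetherianSpace C] in
theorem isCoh_quot
    {D : C.IdealSheafData} (hD : BlowUp.IsEffCartierIdeal D) :
    Coh.IsCoh (ClSub.quotMod D) ∧ genericPoint C ∉ CohB1.support (ClSub.quotMod D) := by
  constructor
  · have hO := TensorMod.LocFree.of_rank
      (TensorMod.LocFree.of_isInvertible (PicLoc.isInvertible_structureModule C))
    have hJ := TensorMod.LocFree.of_rank
      (TensorMod.LocFree.of_isInvertible (ClSub.Cartier.isInvertible_idealMod (I := D) hD))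
    exact CohBasics.Closure.isCoh_of_iso
      (IsColimit.coconePointUniqueUpToIso (cokernelIsCokernel (ClSub.idealModι D))
        (ClSub.Quot.idealSeq_shortExact D).gIsCokernel)
      (CohBasics.Closure.isCoh_cokernel (ClSub.idealModι D)
        (Perfect.Coherent.isCoh_of_isFinLocFree hJ).1 (Perfect.Coherent.isCoh_of_isFinLocFree hO))
  · rw [ClSub.Quot.support_quotMod]
    intro hη
    obtain ⟨U, hU, a, ha, hUa⟩ := hD (genericPoint C)
    have hη' := (Scheme.IdealSheafData.mem_support_iff_of_mem hU).mp hη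
    have ha' : genericPoint C ∉ C.basicOpen a :=
      (Scheme.mem_zeroLocus_iff _ _ _).mp hη' a (by rw [hUa]; exact Ideal.mem_span_singleton_self a)
    have : Nonempty ↥(U.1) := ⟨⟨_, hU⟩⟩
    have hne : a ≠ 0 := nonZeroDivisors.ne_zero ha
    refine ha' (((genericPoint_spec C).mem_open_set_iff (C.basicOpen a).2).mpr ?_)
    rw [Set.univ_inter, Set.nonempty_iff_ne_empty]
    intro he
    exact hne ((basicOpen_eq_bot_iff a).mp (Opens.ext he))

omit [IsIntegral C] [IsLocallyNoetherian C] [NoetherianSpace C] in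
theorem idealModι_toSubscheme_of_le {D D' : C.IdealSheafData} (hle : D ≤ D') :
    ClSub.idealModι D ≫ ClSub.toSubscheme D' = 0 := by
  refine Scheme.Modules.hom_ext _ _ fun U => ?_
  ext m
  let s : Γ(C, U) := (ClSub.idealModι D).app U m
  have hs : D.subschemeι.app U s = 0 := (ClSub.Sections.mem_range_idealModι_app_iff D U s).1 ⟨m, rfl⟩
  show D'.subschemeι.app U s = 0
  rw [Scheme.Hom.congr_app (Scheme.IdealSheafData.inclusion_subschemeι hle).symm U]
  simp only [Scheme.Hom.comp_app, CommRingCat.comp_apply, hs, map_zero]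

omit [NoetherianSpace C] in
/-- The restriction between the structure modules of two divisors. -/
theorem exists_restr
    {D D' : C.IdealSheafData} (hD : BlowUp.IsEffCartierIdeal D) (hD' : BlowUp.IsEffCartierIdeal D')
    (hle : D ≤ D') :
    ∃ S : ShortComplex C.Modules, S.ShortExact ∧ Coh.IsCoh S.X₁ ∧ genericPoint C ∉ CohB1.support S.X₁ ∧
      ∃ (e₂ : ClSub.quotMod D ≅ S.X₂) (e₃ : S.X₃ ≅ ClSub.quotMod D'),
        ClSub.toSubscheme D ≫ e₂.hom ≫ S.g ≫ e₃.hom = ClSub.toSubscheme D' := by
  obtain ⟨hQ, hη⟩ := isCoh_quot hD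
  obtain ⟨hQ', -⟩ := isCoh_quot hD'
  obtain ⟨r, hr⟩ := CokernelCofork.IsColimit.desc' (ClSub.Quot.idealSeq_shortExact D).gIsCokernel
    (ClSub.toSubscheme D') (idealModι_toSubscheme_of_le hle)
  have hr' : ClSub.toSubscheme D ≫ r = ClSub.toSubscheme D' := hr
  haveI : Epi r := by
    haveI := ClSub.Quot.epi_toSubscheme D'
    exact epi_of_epi_fac hr'
  refine ⟨ShortComplex.mk (kernel.ι r) r (kernel.condition r), { exact := ShortComplex.exact_kernel r },
    CohBasics.Closure.isCoh_kernel r hQ hQ'.1, ?_, Iso.refl _, Iso.refl _, by simpa using hr'⟩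
  intro hx
  apply hη
  intro hsub
  refine hx ?_
  exact @Function.Injective.subsingleton _ _ _ ((Modules.Stalk.mono_iff_stalk_injective (kernel.ι r)).1 inferInstance (genericPoint C)) hsub

end

end Groth.Agent.H47.FreeSec
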